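import Cfsg.Agent.Lib.OD.Ab

/-!
# S3130, Step 1 for `q ≥ 4`, abstract part.  `C = C_L(z)`, `Q = {q m m' c}` is special with `Q / Z = W × W`, `Z = {q 0 0 c}`.
An automorphism `γ` of `C` conjugates the scalar `η a` to a scalar modulo an inner automorphism by an element of `Q`.
-/

set_option autoImplicit false
set_option linter.unusedSectionVars false

namespace Cfsg.Lib.OA

open Subgroup Cfsg.Lib.BG Cfsg.Lib.OD
open scoped Cfsg.Lib.Transfer commutatorElement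

section
variable {G : Type*} [Group G] [Finite G] {L N : Subgroup G} {R : G → Prop} {t g z : G}

/-- `X = L ⊓ C(z) ≤ C(t z)`, so `g⁻¹ X g ≤ L` (`fu`, `gen`).  `X` contains a Sylow subgroup `P` of `L` (`cen` for a Sylow subgroup of `L`, `tr`), `g⁻¹ P g ≤ L` is Sylow
(same order) and is centralized by `l = g⁻¹ z g ≠ 1`, so `R l` (`hz`), `l = y z y⁻¹` with `y ∈ L` (`tr`); `g' = g y` has `g' t g'⁻¹ = t z`, `g' z g'⁻¹ = z`.
Then `g' (t z) g'⁻¹ = t`, and `g' X g'⁻¹ ≤ L ⊓ C(z)` by `fu`, `gen`. -/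
theorem swap (x : Ex L N R t) (i : Iv L R) (hz : R z) (tr : ∀ w, R w → Cj L z w)
    (gen : ∀ H : Subgroup G, (∀ a, Fu (L ⊓ 𝐂[z]) a → a ∈ H) → L ⊓ 𝐂[z] ≤ H) (e : g * t * g⁻¹ = t * z) :
    ∃ g, g * t * g⁻¹ = t * z ∧ g * z = z * g ∧ ∀ a ∈ L ⊓ 𝐂[z], g * a * g⁻¹ ∈ L ⊓ 𝐂[z] := by
  have z2 := i.sq z hz
  have X : L ⊓ 𝐂[z] ≤ 𝐂[t * z] := fun a ha => mem_cent1.2 (by rw [← mul_assoc, x.tL a ha.1, mul_assoc, mem_cent1.1 ha.2, mul_assoc])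
  have key : ∀ g, g * (t * z) * g⁻¹ = t → ∀ a ∈ L ⊓ 𝐂[z], g * a * g⁻¹ ∈ L := fun g e a ha => by
    simpa using Transfer.mem_conj.1 (gen (g⁻¹ ⋆ L) (fun a k => Transfer.mem_conj.2 (by simpa using x.fu X e k)) ha)
  obtain ⟨P, s⟩ := Syl.exists (p := 2) L
  obtain ⟨w, hw, c⟩ := x.cen i s.pgroup (s.le.trans x.LC)
  obtain ⟨y, hy, rfl⟩ := tr w hw
  have s1 : Syl 2 (y⁻¹ ⋆ P) L := Hall.conj_of_mem s (inv_mem hy)
  have c1 : z ∈ 𝐂(y⁻¹ ⋆ P) := by rw [← Transfer.conj_centralizer]; exact Transfer.mem_conj.2 (by simpa using c)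
  have k := key g⁻¹ (by rw [← e]; group)
  have s2 : Syl 2 (g⁻¹ ⋆ (y⁻¹ ⋆ P)) L := Hall.of_card_le s1 (Transfer.conj_le_iff.2 fun a ha => k a ⟨s1.le ha, mem_cent1.2 (c1 a ha)⟩)
    (Hall.conj s1 g⁻¹).pi (Transfer.card_conj _ _).ge
  obtain ⟨y', hy', e'⟩ := tr _ ((i.hz _ s2 _ (k z ⟨i.mem z hz, self_mem_cent1 z⟩) (Ex.sq_cj z2 _)
    (Transfer.conj_centralizer g⁻¹ _ ▸ Transfer.conj_mem_conj.2 c1)).resolve_left fun k => i.ne z hz (by simpa using conj_eq_one_iff.1 k))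
  have e1 : g * y' * t * (g * y')⁻¹ = t * z := by rw [← e, mul_assoc g, x.tL y' hy']; group
  have e2 : g * y' * z * (g * y')⁻¹ = z := by
    rw [show g * y' * z * (g * y')⁻¹ = g * (y' * z * y'⁻¹) * g⁻¹ by group, e']; group
  exact ⟨g * y', e1, mul_inv_eq_iff_eq_mul.1 e2, fun a ha =>
    ⟨key _ (by rw [← conj_mul, e1, e2, mul_assoc, z2, mul_one]) a ha, Ex.cj_cen e2 ha.2⟩⟩
end

variable {F U : Type*} [Field F] [AddCommGroup U] [Module F U] [FiniteDimensional F U]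

/-- `ρ = φ 1`. -/
theorem centroid' (B : U →ₗ[F] U →ₗ[F] F) (nd : ∀ u, (∀ v, B u v = 0) → u = 0) (M : U → U) (φ : F → F) (h0 : φ 0 = 0)
    (k : ∀ v w, B (M v) w = φ (B v w)) (v : U) : M v = φ 1 • v := by
  refine sub_eq_zero.1 (nd _ fun w => ?_)
  by_cases e : B v w = 0
  · simp [k, e, h0]
  · have := k v ((B v w)⁻¹ • w)
    simp only [map_smul, smul_eq_mul, inv_mul_cancel₀ e] at this
    simp only [map_sub, map_smul, LinearMap.sub_apply, LinearMap.smul_apply, smul_eq_mul, ← this]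
    field_simp
    ring

/-- `v ^ ⊥ ≤ (M v) ^ ⊥` gives `M v ∈ F v`; compare the scalars on independent vectors. -/
theorem centroid (B : U →ₗ[F] U →ₗ[F] F) (nd : ∀ u, (∀ v, B u v = 0) → u = 0) (h2 : ∀ v : U, ∃ w, w ∉ F ∙ v) (M : U →+ U) (φ : F → F) (h0 : φ 0 = 0)
    (k : ∀ v w, B (M v) w = φ (B v w)) : ∃ ρ : F, ∀ v, M v = ρ • v := ⟨_, centroid' B nd M φ h0 k⟩

/-- The data. -/
structure Hz (C F W : Type*) [Group C] [Field F] [AddCommGroup W] [Module F W] where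
  B : W →ₗ[F] W →ₗ[F] F
  q : W × W → F → C
  η : Fˣ → MulAut C
  τ : C
  l : F
  sym : ∀ u v, B u v = B v u
  nd : ∀ u, (∀ v, B u v = 0) → u = 0
  nt : Nontrivial W
  mul : ∀ v c w d, q v c * q w d = q (v + w) (c + d + B v.2 w.1)
  inj : ∀ v c w d, q v c = q w d → v = w ∧ c = d
  nrm : ∀ g v c, ∃ w d, g * q v c * g⁻¹ = q w d
  zc : ∀ g c, g * q 0 c = q 0 c * g
  o2 : ∀ P : Subgroup C, P.Normal → IsPGroup 2 P → ∀ p ∈ P, ∃ v c, p = q v c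
  cq : ∀ g, (∀ v, ∃ d, g * q v 0 * g⁻¹ = q v d) → ∃ v c, g = q v c
  l0 : l ≠ 0
  l1 : l ≠ 1
  τq : ∀ v c, τ * q v c * τ⁻¹ = q (l • v.1, l⁻¹ • v.2) c
  ηq : ∀ a v c, η a (q v c) = q ((a : F) • v) (a ^ 2 * c)
  gen : ∀ H : Subgroup C, (∀ a, Fu ⊤ a → a ∈ H) → H = ⊤

namespace Hz

variable {C W : Type*} [Group C] [Finite C] [CharP F 2] [AddCommGroup W] [Module F W] [FiniteDimensional F W] (h : Hz C F W)
  {v w : W × W} {c d : F} {β γ : MulAut C}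

/-- The commutator form. -/
def bf : W × W →ₗ[F] W × W →ₗ[F] F :=
  h.B.compl₁₂ (LinearMap.snd F W W) (LinearMap.fst F W W) + h.B.compl₁₂ (LinearMap.fst F W W) (LinearMap.snd F W W)

theorem bf_apply (v w : W × W) : h.bf v w = h.B v.2 w.1 + h.B v.1 w.2 := rfl
theorem bf_nd (u : W × W) (k : ∀ v, h.bf u v = 0) : u = 0 :=
  Prod.ext (h.nd _ fun v => by simpa [bf_apply] using k (0, v)) (h.nd _ fun v => by simpa [bf_apply] using k (v, 0))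
theorem bf_sym (v w : W × W) : h.bf v w = h.bf w v := by rw [bf_apply, bf_apply, h.sym v.2, h.sym v.1, add_comm]
theorem bf_surj (c : F) : ∃ v w, h.bf v w = c := by
  haveI := h.nt
  obtain ⟨u, hu⟩ := exists_ne (0 : W)
  obtain ⟨v, hv⟩ := not_forall.1 (mt (h.nd u) hu)
  exact ⟨(0, u), ((c / h.B u v) • v, 0), by simp [bf_apply, hv]⟩
theorem q_one : h.q 0 0 = 1 := by
  have := h.mul 0 0 0 0
  simpa using this
theorem q_z (v : W × W) (c d : F) : h.q v c * h.q 0 d = h.q v (c + d) := by simp [h.mul]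
theorem q_conj (v w : W × W) (c d : F) : h.q v c * h.q w d * (h.q v c)⁻¹ = h.q w (d + h.bf v w) := by
  rw [mul_inv_eq_iff_eq_mul, h.mul, h.mul, add_comm v, bf_apply, h.sym w.2]
  congr 1
  linear_combination (-h.B v.1 w.2) * CharTwo.two_eq_zero (R := F)

/-- `Q`. -/
def Q : Subgroup C where
  carrier := {x | ∃ v c, x = h.q v c}
  one_mem' := ⟨0, 0, h.q_one.symm⟩
  mul_mem' := by rintro _ _ ⟨v, c, rfl⟩ ⟨w, d, rfl⟩; exact ⟨_, _, h.mul ..⟩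
  inv_mem' := by
    rintro _ ⟨v, c, rfl⟩
    exact ⟨-v, h.B v.2 v.1 - c, inv_eq_of_mul_eq_one_right (by simp [h.mul, h.q_one])⟩

/-- `x ^ 4 = 1`. -/
theorem Q_two : IsPGroup 2 h.Q := by
  rintro ⟨_, v, c, rfl⟩
  have e : v + v = 0 := by rw [← two_smul F, CharTwo.two_eq_zero, zero_smul]
  refine ⟨2, Subtype.ext ?_⟩
  change h.q v c ^ (2 * 2) = 1
  rw [pow_mul, pow_two, pow_two, h.mul, e, h.q_z, CharTwo.add_self_eq_zero, h.q_one]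
theorem Q_normal : h.Q.Normal := ⟨by rintro _ ⟨v, c, rfl⟩ g; exact h.nrm g v c⟩
theorem cen_z (k : ∀ u, h.q u 0 * h.q v c = h.q v c * h.q u 0) : v = 0 := h.bf_nd _ fun u => by
  have := (h.inj _ _ _ _ ((h.q_conj u v 0 c).symm.trans (mul_inv_eq_iff_eq_mul.2 (k u)))).2
  rw [h.bf_sym]; simpa using this
theorem ex_T (γ : MulAut C) : ∃ (T : W × W → W × W) (χ : F → F), (∀ v c, ∃ d, γ (h.q v c) = h.q (T v) d) ∧ ∀ c, γ (h.q 0 c) = h.q 0 (χ c) := by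
  have k : ∀ v c, ∃ w d, γ (h.q v c) = h.q w d := fun v c =>
    h.o2 (h.Q.map γ.toMonoidHom) (h.Q_normal.map _ γ.surjective) (h.Q_two.map _) _ ⟨_, ⟨v, c, rfl⟩, rfl⟩
  have k0 : ∀ c, ∃ d, γ (h.q 0 c) = h.q 0 d := fun c => by
    obtain ⟨w, d, e⟩ := k 0 c
    obtain rfl := h.cen_z (v := w) (c := d) fun u => by
      obtain ⟨x, hx⟩ := γ.surjective (h.q u 0)
      rw [← e, ← hx, ← map_mul, h.zc, map_mul]
    exact ⟨d, e⟩
  choose T d e using fun v => k v 0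
  choose χ e0 using k0
  exact ⟨T, χ, fun v c => ⟨d v + χ c, by rw [← h.q_z, ← e, ← e0, ← map_mul, h.q_z, zero_add]⟩, e0⟩
/-- `γ` acts as `T` on `Q / Z` and as `χ` on `Z`. -/
structure Ac (γ : MulAut C) (T : W × W ≃+ W × W) (χ : F → F) : Prop where
  q : ∀ v c, ∃ d, γ (h.q v c) = h.q (T v) d
  z : ∀ c, γ (h.q 0 c) = h.q 0 (χ c)
  bf : ∀ v w, h.bf (T v) (T w) = χ (h.bf v w)
  z0 : χ 0 = 0

/-- `γ Q ≤ Q` and `γ⁻¹ Q ≤ Q` by `o2`; `Z` is the centre of `Q` (`q_conj`, `bf_nd`). -/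
theorem exists_ac (γ : MulAut C) : ∃ T χ, h.Ac γ T χ := by
  choose T χ e e0 using h.ex_T
  have inv : ∀ γ : MulAut C, ∀ v, T γ⁻¹ (T γ v) = v := fun γ v => by
    obtain ⟨d, k⟩ := e γ v 0
    obtain ⟨d', k'⟩ := e γ⁻¹ (T γ v) d
    rw [← k, MulAut.inv_apply_self] at k'
    exact (h.inj _ _ _ _ k').1.symm
  refine ⟨⟨⟨T γ, T γ⁻¹, inv γ, fun v => by simpa using inv γ⁻¹ v⟩, fun v w => ?_⟩, χ γ, e γ, e0 γ, fun v w => ?_, ?_⟩
  · obtain ⟨d, k⟩ := e γ v 0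
    obtain ⟨d', k'⟩ := e γ w 0
    obtain ⟨d'', k''⟩ := e γ (v + w) (0 + 0 + h.B v.2 w.1)
    rw [← h.mul, map_mul, k, k', h.mul] at k''
    exact (h.inj _ _ _ _ k'').1.symm
  · obtain ⟨d, k⟩ := e γ v 0
    obtain ⟨d', k'⟩ := e γ w 0
    have := congrArg γ (h.q_conj v w 0 0)
    rw [← h.q_z, map_mul, map_mul, map_mul, map_inv, k, k', e0, h.q_conj, h.q_z] at this
    exact add_left_cancel (h.inj _ _ _ _ this).2
  · have := e0 γ 0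
    rw [h.q_one, map_one, ← h.q_one] at this
    exact (h.inj _ _ _ _ this).2.symm
theorem Ac.inv {T : W × W ≃+ W × W} {χ : F → F} {h : Hz C F W} (A : h.Ac γ T χ) (v : W × W) (c : F) : ∃ d, γ⁻¹ (h.q v c) = h.q (T.symm v) d := by
  obtain ⟨T', -, e, -⟩ := h.ex_T γ⁻¹
  obtain ⟨d, k⟩ := e v c
  obtain ⟨d', k'⟩ := A.q (T' v) d
  rw [← k, MulAut.apply_inv_self] at k'
  exact ⟨d, by rw [k]; congr 1; rw [AddEquiv.eq_symm_apply, ← (h.inj _ _ _ _ k').1]⟩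
theorem Ac.inj {T : W × W ≃+ W × W} {χ : F → F} {h : Hz C F W} (A : h.Ac γ T χ) : Function.Injective χ := fun c d e =>
  (h.inj _ _ _ _ (γ.injective (by rw [A.z, A.z, e]))).2
theorem mem_Q (k : ∀ v c, ∃ d, β (h.q v c) = h.q v c * h.q 0 d) (x : C) : ∃ n c, x⁻¹ * β x = h.q n c := h.cq _ fun v => by
  obtain ⟨d, e⟩ := k v 0
  obtain ⟨w, c, e1⟩ := h.nrm x v 0
  obtain ⟨d', e'⟩ := k w c
  rw [← e1, map_mul, map_mul, map_inv, e, ← mul_assoc, mul_assoc _ (h.q 0 d), ← h.zc, ← mul_assoc, ← eq_mul_inv_iff_mul_eq] at e'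
  refine ⟨d' - d, ?_⟩
  have i : (h.q 0 d)⁻¹ = h.q 0 (-d) := inv_eq_of_mul_eq_one_right (by rw [h.q_z, add_neg_cancel, h.q_one])
  rw [show x⁻¹ * β x * h.q v 0 * (x⁻¹ * β x)⁻¹ = x⁻¹ * (β x * h.q v 0 * (β x)⁻¹) * x by group, e', i, mul_assoc _ (h.q 0 d'), h.q_z,
    mul_assoc x⁻¹, mul_assoc _ _ x, ← h.zc]
  simp [mul_assoc, h.q_z, sub_eq_add_neg]
theorem fix (k : ∀ v c, β (h.q v c) = h.q v c) : β = 1 := by
  have cen : ∀ x, x⁻¹ * β x ∈ center C := fun x => by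
    obtain ⟨n, c, e⟩ := h.mem_Q (fun v c => ⟨0, by rw [k, h.q_one, mul_one]⟩) x
    obtain rfl := h.cen_z (v := n) (c := c) fun u => by
      obtain ⟨w, d, e1⟩ := h.nrm x u 0
      have := k w d
      rw [← e1, map_mul, map_mul, map_inv, k, mul_inv_eq_iff_eq_mul] at this
      rw [← e, mul_assoc, this]; group
    rw [e]; exact mem_center_iff.2 fun g => h.zc g c
  let f : C →* center C := MonoidHom.mk' (fun x => ⟨_, cen x⟩) fun x y => Subtype.ext (by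
    change (x * y)⁻¹ * β (x * y) = x⁻¹ * β x * (y⁻¹ * β y)
    rw [← mul_assoc, ← mem_center_iff.1 (cen x), map_mul]; group)
  have := h.gen f.ker fun w ⟨_, _, a, _, b, _, e⟩ => by
    have := congrArg f e
    have cm : ∀ a b : center C, a * b = b * a := fun a b => Subtype.ext (mem_center_iff.1 b.2 a)
    simp only [map_mul, map_inv, cm (f b) (f w), cm (f a) (f w), mul_inv_cancel_right] at this
    exact left_eq_mul.1 this
  ext x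
  exact (inv_mul_eq_one.1 (Subtype.mk.inj (this.ge (mem_top x)))).symm
/-- `β (q v 0) = q v (δ v)`, `β` fixes `Z` (`bf_surj`), `δ` is additive.  `τ⁻¹ β τ ∈ Q` (`cq`) gives `δ (l v₁, l⁻¹ v₂) = δ v + bf n v`, so `δ` is linear on `W × 0` (as `l + 1 ≠ 0`)
and on `0 × W`: `δ = bf n₀` (`bf_nd`, finite dimension).  `β' = conj (q n₀ 0)⁻¹ * β` fixes `Q`; `x⁻¹ β' x ∈ Q` (`cq`) centralizes `Q`, so lies in `Z`; `x ↦ x⁻¹ β' x` is a
homomorphism to the central elementary abelian group `Z`, it kills the `Fu` elements; `gen`. -/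
theorem inner (k : ∀ v c, ∃ d, β (h.q v c) = h.q v d) : ∃ n, β = MulAut.conj n := by
  obtain ⟨T, χ, A⟩ := h.exists_ac β
  have hT : ∀ v, T v = v := fun v => by
    obtain ⟨d, e⟩ := k v 0
    obtain ⟨d', e'⟩ := A.q v 0
    exact (h.inj _ _ _ _ (e'.symm.trans e)).1
  have hz : ∀ c, β (h.q 0 c) = h.q 0 c := fun c => by
    obtain ⟨v, w, rfl⟩ := h.bf_surj c
    rw [A.z, ← A.bf, hT, hT]
  choose δ e using fun v => k v 0
  replace e : ∀ v c, β (h.q v c) = h.q v (c + δ v) := fun v c => by rw [add_comm, ← h.q_z _ (δ v), ← e, ← hz, ← map_mul, h.q_z, zero_add]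
  have ad : ∀ v w, δ (v + w) = δ v + δ w := fun v w => by
    have := congrArg β (h.mul v 0 w 0)
    rw [map_mul, e, e, e, h.mul] at this
    linear_combination -(h.inj _ _ _ _ this).2
  obtain ⟨n, c, e1⟩ := h.mem_Q (fun v c => ⟨_, by rw [e, h.q_z]⟩) h.τ
  have lin : ∀ v, δ (h.l • v.1, h.l⁻¹ • v.2) = δ v + h.bf n v := fun v => by
    have := congrArg β (h.τq v 0)
    rw [map_mul, map_mul, map_inv, e, e, inv_mul_eq_iff_eq_mul.1 e1, show h.τ * h.q n c * h.q v (0 + δ v) * (h.τ * h.q n c)⁻¹ =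
      h.τ * (h.q n c * h.q v (0 + δ v) * (h.q n c)⁻¹) * h.τ⁻¹ by group, h.q_conj, h.τq] at this
    linear_combination -(h.inj _ _ _ _ this).2
  have two := CharTwo.two_eq_zero (R := F)
  have l1 : h.l + 1 ≠ 0 := fun k => h.l1 (by linear_combination k - two)
  have l2 : h.l⁻¹ + 1 ≠ 0 := fun k => h.l1 (inv_eq_one.1 (by linear_combination k - two))
  have d1 : ∀ u : W, δ (u, 0) = (h.l + 1)⁻¹ * h.B n.2 u := fun u => by
    have a := lin ((h.l + 1)⁻¹ • u, 0)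
    have b := ad (h.l • (h.l + 1)⁻¹ • u, 0) ((h.l + 1)⁻¹ • u, 0)
    rw [Prod.mk_add_mk, add_zero, ← one_smul F ((h.l + 1)⁻¹ • u), smul_smul h.l, mul_one, ← add_smul, smul_smul, mul_inv_cancel₀ l1, one_smul, one_smul] at b
    simp only [smul_zero, bf_apply, map_smul, map_zero, add_zero, smul_eq_mul] at a
    linear_combination a + b + δ ((h.l + 1)⁻¹ • u, 0) * two
  have d2 : ∀ u : W, δ (0, u) = (h.l⁻¹ + 1)⁻¹ * h.B n.1 u := fun u => by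
    have a := lin (0, (h.l⁻¹ + 1)⁻¹ • u)
    have b := ad (0, h.l⁻¹ • (h.l⁻¹ + 1)⁻¹ • u) (0, (h.l⁻¹ + 1)⁻¹ • u)
    rw [Prod.mk_add_mk, add_zero, ← one_smul F ((h.l⁻¹ + 1)⁻¹ • u), smul_smul h.l⁻¹, mul_one, ← add_smul, smul_smul, mul_inv_cancel₀ l2, one_smul, one_smul] at b
    simp only [smul_zero, bf_apply, map_smul, map_zero, zero_add, smul_eq_mul] at a
    linear_combination a + b + δ (0, (h.l⁻¹ + 1)⁻¹ • u) * two
  refine ⟨h.q ((h.l⁻¹ + 1)⁻¹ • n.1, (h.l + 1)⁻¹ • n.2) 0, (inv_mul_eq_one.1 (h.fix fun v c => ?_)).symm⟩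
  rw [MulAut.mul_apply, MulAut.inv_def, MulEquiv.symm_apply_eq, MulAut.conj_apply, h.q_conj, e, bf_apply]
  have := ad (v.1, 0) (0, v.2)
  rw [Prod.mk_add_mk, add_zero, zero_add, d1, d2] at this
  simp [this]
/-- `centroid` for `M = T a T⁻¹`, `φ c = χ (a * χ' c)`; `ρ ≠ 0`; `inner`. -/
theorem al (γ : MulAut C) (a : Fˣ) : ∃ (ρ : Fˣ) (n : C), γ * h.η a * γ⁻¹ * (h.η ρ)⁻¹ = MulAut.conj n := by
  obtain ⟨T, χ, A⟩ := h.exists_ac γ
  obtain ⟨χ', i⟩ := A.inj.hasLeftInverse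
  have e := centroid' h.bf h.bf_nd (fun v => T ((a : F) • T.symm v)) (fun c => χ (a * χ' c)) (by
    rw [← A.z0, i, mul_zero]) fun v w => by
    obtain ⟨v, rfl⟩ := T.surjective v
    obtain ⟨w, rfl⟩ := T.surjective w
    rw [T.symm_apply_apply, A.bf, A.bf, i]; simp
  generalize χ (a * χ' 1) = ρ at e
  have ρ0 : ρ ≠ 0 := by
    rintro rfl
    haveI := h.nt
    obtain ⟨u, hu⟩ := exists_ne (0 : W × W)
    simpa [hu] using e u
  refine ⟨Units.mk0 ρ ρ0, h.inner fun v c => ?_⟩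
  have k : (h.η (Units.mk0 ρ ρ0))⁻¹ (h.q v c) = h.q (ρ⁻¹ • v) ((ρ ^ 2)⁻¹ * c) := by
    rw [MulAut.inv_def, MulEquiv.symm_apply_eq, h.ηq]; simp [ρ0]
  obtain ⟨d, k1⟩ := A.inv (ρ⁻¹ • v) ((ρ ^ 2)⁻¹ * c)
  obtain ⟨d', k2⟩ := A.q ((a : F) • T.symm (ρ⁻¹ • v)) (a ^ 2 * d)
  refine ⟨d', ?_⟩
  rw [MulAut.mul_apply, MulAut.mul_apply, MulAut.mul_apply, k, k1, h.ηq, k2, e]; simp [ρ0]

/-- `w = g (H a) g⁻¹ (H ρ)⁻¹`, `a = l`, acts as `conj n`; `w t w⁻¹ = g (H a) (t z) (H a)⁻¹ g⁻¹ = t z κ (γ (q 0 (a ^ 2)))`, `γ (q 0 (a ^ 2)) = q 0 d'`, `d' ≠ 1`;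
`y = (κ n)⁻¹ w`. -/
theorem e1 {G : Type*} [Group G] (κ : C →* G) {t g : G} (t2 : t * t = 1) (tκ : ∀ x, κ x * t = t * κ x) (hg : g * t * g⁻¹ = t * κ (h.q 0 1))
    (hγ : ∀ x, g * κ x * g⁻¹ = κ (γ x)) (γz : γ (h.q 0 1) = h.q 0 1) (H : Fˣ → G) (Ht : ∀ a, H a * t = t * H a)
    (Hη : ∀ a x, H a * κ x * (H a)⁻¹ = κ (h.η a x)) : ∃ y d, d ≠ 0 ∧ y * t * y⁻¹ = t * κ (h.q 0 d) ∧ ∀ x, y * κ x = κ x * y := by
  obtain ⟨T, χ, A⟩ := h.exists_ac γ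
  obtain ⟨ρ, n, e⟩ := h.al γ (Units.mk0 h.l h.l0)
  have two := CharTwo.two_eq_zero (R := F)
  have χ1 : χ 1 = 1 := (h.inj _ _ _ _ ((A.z 1).symm.trans γz)).2
  have g' : g⁻¹ * t * g = t * κ (h.q 0 1) := by
    have : g * (t * κ (h.q 0 1)) * g⁻¹ = t := by
      rw [← conj_mul, hg, hγ, γz, mul_assoc, ← map_mul, h.q_z, CharTwo.add_self_eq_zero, h.q_one, map_one, mul_one]
    nth_rw 1 [← this]; group
  refine ⟨(κ n)⁻¹ * (g * H (Units.mk0 h.l h.l0) * g⁻¹ * (H ρ)⁻¹), 1 + χ (h.l ^ 2), fun k => h.l1 ?_, ?_, fun x => ?_⟩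
  · have : h.l ^ 2 = 1 := A.inj (by linear_combination k - χ1 - two)
    exact sub_eq_zero.1 (pow_eq_zero_iff two_ne_zero |>.1 (by linear_combination this + (1 - h.l) * two : (h.l - 1) ^ 2 = 0))
  · have a : (H ρ)⁻¹ * t * H ρ = t := by rw [mul_assoc, ← Ht, inv_mul_cancel_left]
    have b : H (Units.mk0 h.l h.l0) * t * (H (Units.mk0 h.l h.l0))⁻¹ = t := by rw [Ht, mul_inv_cancel_right]
    rw [show ∀ a b : G, (κ n)⁻¹ * (g * a * g⁻¹ * b⁻¹) * t * ((κ n)⁻¹ * (g * a * g⁻¹ * b⁻¹))⁻¹ =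
      (κ n)⁻¹ * (g * (a * (g⁻¹ * (b⁻¹ * t * b) * g) * a⁻¹) * g⁻¹) * κ n from fun a b => by group, a, g', ← conj_mul (b := H _), b, Hη, ← conj_mul, hg, hγ, h.ηq,
      smul_zero, mul_one, A.z, mul_assoc t, ← map_mul, h.q_z, mul_assoc, mul_assoc, ← map_mul, ← h.zc, map_mul, ← mul_assoc t, ← tκ]
    simp [mul_assoc]
  · obtain ⟨x, rfl⟩ := (h.η ρ).surjective x
    obtain ⟨x, rfl⟩ := γ.surjective x
    have k := DFunLike.congr_fun e (h.η ρ (γ x))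
    simp only [MulAut.mul_apply, MulAut.inv_apply_self, MulAut.conj_apply] at k
    rw [← mul_inv_eq_iff_eq_mul]
    nth_rw 1 [← Hη, ← hγ]
    rw [show ∀ a b y : G, (κ n)⁻¹ * (g * a * g⁻¹ * b⁻¹) * (b * (g * y * g⁻¹) * b⁻¹) * ((κ n)⁻¹ * (g * a * g⁻¹ * b⁻¹))⁻¹ =
      (κ n)⁻¹ * (g * (a * y * a⁻¹) * g⁻¹) * κ n from fun a b y => by group, Hη, hγ, k]
    simp [mul_assoc]

end Hz

end Cfsg.Lib.OA
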